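import Groth.Agent.QC70.FiniteType
import Groth.Agent.H98Nis.Uniform
import Groth.Prelude.Def_FlatMod2

set_option autoImplicit false
set_option backward.isDefEq.respectTransparency.types false
set_option maxHeartbeats 400000

/-!
# Generators of a module from generators of its sheaf on an open cover of the spectrum
-/

noncomputable section

universe u

open CategoryTheory Limits AlgebraicGeometry TopologicalSpace Opposite
open Groth.Agent.QC70

namespace Groth.Agent.H98Gen

/-- An epimorphism from a free module on `V` gives locally generating sections. -/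
lemma exists_locGenBy_of_epi {X : Scheme.{u}} (M : X.Modules) (V : X.Opens) {I : Type u} [Fintype I]
    (φ : QC70.freeMod (V : Scheme.{u}) I ⟶ M.restrict V.ι) [Epi φ] :
    ∃ s : I → Γ(M, V), LocGenBy M V s := by
  let s' : I → Γ(M.restrict V.ι, ⊤) := fun i => (ιMod i ≫ φ).app ⊤ (toUnit 1)
  refine ⟨fun i => res M (le_of_eq (by simp)) ((M.restrictAppIso V.ι ⊤).hom (s' i)), ?_⟩
  intro W hW x q hq
  have hWimg : V.ι ''ᵁ (V.ι ⁻¹ᵁ W) = W := by
    rw [Scheme.Hom.image_preimage_eq_opensRange_inf, Scheme.Opens.opensRange_ι, inf_eq_right]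
    exact hW
  obtain ⟨W₁, hW₁, z, hq₁, hz⟩ := exists_local_lift φ
    (U := V.ι ⁻¹ᵁ W) ((M.restrictAppIso V.ι _).inv (res M hWimg.le x)) (p := ⟨q, hW hq⟩) hq
  obtain ⟨a, ha⟩ := exists_sum_eq_free φ z
  rw [ha] at hz
  refine ⟨V.ι ''ᵁ W₁, (V.ι.image_mono hW₁).trans hWimg.le,
    ((V.ι.image_mono hW₁).trans hWimg.le).trans hW, fun i => (V.ι.appIso W₁).inv (a i),
    ⟨⟨q, hW hq⟩, hq₁, rfl⟩, ?_⟩
  have h2 := congrArg (M.restrictAppIso V.ι W₁).hom hz
  rw [map_sum] at h2
  rw [← res_res hWimg.le (V.ι.image_mono hW₁)]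
  refine Eq.trans ?_ (h2.symm.trans (Finset.sum_congr rfl fun i _ => ?_))
  · rfl
  · rw [Scheme.Modules.smul_restrictAppIso_hom_apply, res_res]
    rfl

lemma exists_locGenBy_of_epi_flatFree {X : Scheme.{u}} (M : X.Modules) (V : X.Opens) (n : ℕ)
    (φ : FlatMod.freeMod (V : Scheme.{u}) n ⟶ M.restrict V.ι) [Epi φ] :
    ∃ s : ULift.{u} (Fin n) → Γ(M, V), LocGenBy M V s := by
  let ψ : QC70.freeMod (V : Scheme.{u}) (ULift.{u} (Fin n)) ⟶ FlatMod.freeMod (V : Scheme.{u}) n :=
    Sigma.desc fun k => Sigma.ι (fun _ : Fin n => Coh.structureModule (V : Scheme.{u})) k.down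
  have : Epi ψ :=
    have : IsSplitEpi ψ := IsSplitEpi.mk' ⟨Sigma.desc fun k =>
      Sigma.ι (fun _ : ULift.{u} (Fin n) => unitMod (V : Scheme.{u})) ⟨k⟩,
      Sigma.hom_ext _ _ fun k => by simp [ψ]⟩
    inferInstance
  exact exists_locGenBy_of_epi M V (ψ ≫ φ)

variable {R : CommRingCat.{u}} (M : ModuleCat.{u} R)

/-- The image of an element of the module in the sections over an open. -/
abbrev sec (U : (Spec R).Opens) (y : M) : Γ(tilde M, U) := (tilde.toOpen M U).hom y

lemma res_sec {U V : (Spec R).Opens} (h : V ≤ U) (y : M) :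
    res (tilde M) h (sec M U y) = sec M V y :=
  congr($(tilde.toOpen_res M U V (homOfLE h)).hom y)

lemma res_Rsmul {U V : (Spec R).Opens} (h : V ≤ U) (r : R) (t : Γ(tilde M, U)) :
    res (tilde M) h (r • t) = r • res (tilde M) h t :=
  Scheme.Modules.map_smul_Spec _ r t

/-- Local generators give, up to a power of `a`, elements of `M` generating it at all points of
`D(a)`. -/
lemma exists_gens_basicOpen {ι : Type u} [Fintype ι] (a : R) {U : (Spec R).Opens}
    (hU : PrimeSpectrum.basicOpen a ≤ U) (s : ι → Γ(tilde M, U)) (hs : LocGenBy (tilde M) U s) :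
    ∃ x : ι → M, ∀ (y : M) (P : Spec R), a ∉ P.asIdeal →
      ∃ u : R, u ∉ P.asIdeal ∧ u • y ∈ Submodule.span R (Set.range x) := by
  let D : (Spec R).Opens := PrimeSpectrum.basicOpen a
  let t : ι → Γ(tilde M, D) := fun k => res (tilde M) hU (s k)
  have ht : LocGenBy (tilde M) D t := hs.mono hU
  choose p hp using fun k => IsLocalizedModule.surj (Submonoid.powers a)
    (tilde.toOpen M (PrimeSpectrum.basicOpen a)).hom (t k)
  let e : ι → ℕ := fun k => (p k).2.2.choose
  have he : ∀ k, a ^ e k = ((p k).2 : R) := fun k => (p k).2.2.choose_spec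
  let N : ℕ := ∑ k, e k
  let x : ι → M := fun k => a ^ (N - e k) • (p k).1
  have hx : ∀ k, a ^ N • t k = sec M D (x k) := fun k => by
    have hle : e k ≤ N := Finset.single_le_sum (fun j _ => Nat.zero_le (e j)) (Finset.mem_univ k)
    have h1 : a ^ e k • t k = sec M D (p k).1 := by rw [he k]; exact hp k
    show _ = (tilde.toOpen M D).hom (a ^ (N - e k) • (p k).1)
    rw [map_smul]
    show _ = a ^ (N - e k) • sec M D (p k).1
    rw [← h1, smul_smul, ← pow_add, Nat.sub_add_cancel hle]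
  refine ⟨x, fun y P hP => ?_⟩
  obtain ⟨W, hW, hWD, c, hPW, hc⟩ := ht D le_rfl (sec M D y) P hP
  obtain ⟨_, ⟨b, rfl⟩, hPb, hbW⟩ :=
    PrimeSpectrum.isTopologicalBasis_basic_opens.exists_subset_of_mem_open hPW W.2
  let B : (Spec R).Opens := PrimeSpectrum.basicOpen b
  have hBW : B ≤ W := hbW
  -- the relation on `D(b)`
  have h2 := congrArg (res (tilde M) hBW) hc
  rw [res_res, res_sec, res_sum] at h2
  have h3 : a ^ N • sec M B y = ∑ k, resO (Spec R) hBW (c k) • sec M B (x k) := by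
    rw [h2, Finset.smul_sum]
    refine Finset.sum_congr rfl fun k _ => ?_
    rw [res_smul, res_res, smul_comm, ← res_Rsmul, hx k, res_sec]
  obtain ⟨bk, hbk⟩ := IsLocalization.exist_integer_multiples_of_finite (Submonoid.powers b)
    (fun k => resO (Spec R) hBW (c k) : ι → Γ(Spec R, B))
  choose r hr using hbk
  have h4 : ((bk : R) * a ^ N) • sec M B y = sec M B (∑ k, r k • x k) := by
    show _ = (tilde.toOpen M B).hom _
    rw [map_sum, ← smul_smul, h3, Finset.smul_sum]
    refine Finset.sum_congr rfl fun k _ => ?_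
    rw [map_smul]
    show _ = r k • sec M B (x k)
    rw [← smul_assoc, ← algebraMap_smul Γ(Spec R, B) (r k) (sec M B (x k))]
    congr 1
    exact (hr k).symm
  have h5 : (tilde.toOpen M (PrimeSpectrum.basicOpen b)).hom (((bk : R) * a ^ N) • y) =
      (tilde.toOpen M (PrimeSpectrum.basicOpen b)).hom (∑ k, r k • x k) := by
    rw [map_smul]; exact h4
  obtain ⟨cc, hcc⟩ := (IsLocalizedModule.eq_iff_exists (Submonoid.powers b)
    (tilde.toOpen M (PrimeSpectrum.basicOpen b)).hom).mp h5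
  refine ⟨(cc : R) * ((bk : R) * a ^ N), ?_, ?_⟩
  · have hpow : ∀ q : Submonoid.powers b, (q : R) ∉ P.asIdeal := fun q => by
      obtain ⟨j, hj⟩ := q.2
      exact hj ▸ fun h => hPb (P.isPrime.mem_of_pow_mem j h)
    exact fun h => (P.isPrime.mem_or_mem h).elim (hpow cc) fun h' =>
      (P.isPrime.mem_or_mem h').elim (hpow bk) fun h'' => hP (P.isPrime.mem_of_pow_mem N h'')
  · rw [← smul_smul]
    show (cc : R) • _ ∈ _
    have : (cc : R) • ((bk : R) * a ^ N) • y = (cc : R) • ∑ k, r k • x k := hcc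
    rw [this]
    exact Submodule.smul_mem _ _ (Submodule.sum_mem _ fun k _ =>
      Submodule.smul_mem _ _ (Submodule.subset_span ⟨k, rfl⟩))

/-- A module whose sheaf is generated by `n` sections on each member of a cover by `m` opens is
generated by `n * m` elements. -/
theorem exists_gens_of_cover (n m : ℕ) (U : Fin m → (Spec R).Opens) (hU : ⨆ i, U i = ⊤)
    (hgen : ∀ i, ∃ φ : FlatMod.freeMod (↑(U i)) n ⟶ (tilde M).restrict (U i).ι, Epi φ) :
    ∃ s : Fin (n * m) → M, Submodule.span R (Set.range s) = ⊤ := by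
  obtain ⟨a, hspan, ha⟩ := H98Nis.exists_basic_partition (R := R) U hU
  have hloc : ∀ i, ∃ x : ULift.{u} (Fin n) → M, ∀ (y : M) (P : Spec R), a i ∉ P.asIdeal →
      ∃ u : R, u ∉ P.asIdeal ∧ u • y ∈ Submodule.span R (Set.range x) := fun i => by
    obtain ⟨φ, _⟩ := hgen i
    obtain ⟨s, hs⟩ := exists_locGenBy_of_epi_flatFree (tilde M) (U i) n φ
    exact exists_gens_basicOpen M (a i) (ha i) s hs
  choose x hx using hloc
  let f : Fin (n * m) → M := fun j =>
    x (finProdFinEquiv.symm j).2 ⟨(finProdFinEquiv.symm j).1⟩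
  refine ⟨f, Submodule.eq_top_iff'.mpr fun y => ?_⟩
  let I : Ideal R := (Submodule.span R (Set.range f)).comap (LinearMap.toSpanSingleton R M y)
  suffices I = ⊤ by
    have h1 : (1 : R) ∈ I := this ▸ Submodule.mem_top
    simpa [I] using h1
  by_contra hne
  obtain ⟨P, hP, hle⟩ := Ideal.exists_le_maximal I hne
  obtain ⟨i, hi⟩ : ∃ i, a i ∉ P := by
    by_contra! hall
    exact hP.ne_top (top_le_iff.mp (hspan ▸ Ideal.span_le.mpr (Set.range_subset_iff.mpr hall)))
  obtain ⟨u, hu, hmem⟩ := hx i y ⟨P, hP.isPrime⟩ hi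
  refine hu (hle (show u • y ∈ Submodule.span R (Set.range f) from Submodule.span_mono ?_ hmem))
  rintro _ ⟨⟨k⟩, rfl⟩
  exact ⟨finProdFinEquiv (k, i), by simp only [f, Equiv.symm_apply_apply]⟩

end Groth.Agent.H98Gen
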